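import Groth.Agent.CSALib.BaseChange
import Groth.Agent.CSALib.BrauerRel
import Mathlib.FieldTheory.SeparableDegree
import Mathlib.FieldTheory.Separable

/-! Brauer classes over separable algebraic extensions. -/

universe u
open scoped TensorProduct
open Groth.Agent.CSALib
set_option linter.style.haveILetI false

namespace Groth.Agent.H9BrRes

/-- A central simple algebra over a field without division algebras is split. -/
theorem similar_self_of_forall (F : Type u) [Field F]
    (h : ∀ (D : Type u) [DivisionRing D] [Algebra F D] [Algebra.IsCentral F D] [FiniteDimensional F D],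
      Module.finrank F D = 1)
    (A : Type u) [Ring A] [Algebra F A] [Algebra.IsCentral F A] [IsSimpleRing A] [FiniteDimensional F A] :
    Similar F A F := by
  obtain ⟨a, ha, D, _, _, _, _, ⟨f⟩⟩ := exists_division F A
  have h1 : Module.finrank F D = 1 := h D
  let e : F ≃ₐ[F] D := AlgEquiv.ofBijective (Algebra.ofId F D)
    ⟨(algebraMap F D).injective, (LinearMap.injective_iff_surjective_of_finrank_eq_finrank
      (f := (Algebra.ofId F D).toLinearMap) (by rw [Module.finrank_self, h1])).1 (algebraMap F D).injective⟩
  exact (similar_of_algEquiv_matrix ha.out f).trans (similar_of_algEquiv e.symm)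

/-- Base change in two steps. -/
noncomputable def cancelBC (E L M : Type u) [Field E] [Field L] [Field M] [Algebra E L] [Algebra E M] [Algebra L M]
    [IsScalarTower E L M] (D : Type u) [Ring D] [Algebra E D] :
    M ⊗[L] (L ⊗[E] D) ≃ₐ[M] M ⊗[E] D :=
  AlgEquiv.ofAlgHom
    (Algebra.TensorProduct.lift (Algebra.ofId M (M ⊗[E] D))
      (Algebra.TensorProduct.lift (Algebra.ofId L (M ⊗[E] D))
        Algebra.TensorProduct.includeRight (fun c x => Algebra.commutes c _))
      (fun c x => Algebra.commutes c _))
    (Algebra.TensorProduct.lift (Algebra.ofId M (M ⊗[L] (L ⊗[E] D)))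
      (((Algebra.TensorProduct.includeRight : L ⊗[E] D →ₐ[L] M ⊗[L] (L ⊗[E] D)).restrictScalars E).comp
        Algebra.TensorProduct.includeRight) (fun c x => Algebra.commutes c _))
    (by ext x; simp)
    (by ext x <;> simp)

theorem splits_of_forall (K F : Type u) [Field K] [Field F] [Algebra K F] [Algebra.IsSeparable K F]
    (hF : ∀ (F' : Type u) [Field F'] [Algebra F F'] [FiniteDimensional F F'] [Algebra.IsSeparable F F']
      (D : Type u) [DivisionRing D] [Algebra F' D] [Algebra.IsCentral F' D] [FiniteDimensional F' D],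
      Module.finrank F' D = 1)
    (E : Type u) [Field E] [Algebra K E] [FiniteDimensional K E] [Algebra.IsSeparable K E]
    (D : Type u) [DivisionRing D] [Algebra E D] [Algebra.IsCentral E D] [FiniteDimensional E D]
    (M : Type u) [Field M] [Algebra K M] [Algebra E M] [Algebra F M] [IsScalarTower K E M] [IsScalarTower K F M] :
    ∃ n : ℕ, Nonempty ((M ⊗[E] D) ≃ₐ[M] Matrix (Fin n) (Fin n) M) := by
  let b := Module.finBasis K E
  let S : Set M := Set.range fun i => algebraMap E M (b i)
  let L : IntermediateField F M := IntermediateField.adjoin F S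
  have hint : ∀ x ∈ S, IsIntegral F x := by
    rintro _ ⟨i, rfl⟩
    exact IsIntegral.tower_top ((IsIntegral.of_finite K (b i)).map (IsScalarTower.toAlgHom K E M))
  haveI : Finite S := Set.finite_range _
  haveI : FiniteDimensional F L := IntermediateField.finiteDimensional_adjoin hint
  haveI : Algebra.IsSeparable F L := by
    rw [IntermediateField.isSeparable_adjoin_iff_isSeparable]
    rintro _ ⟨i, rfl⟩
    exact IsSeparable.tower_top F ((Algebra.IsSeparable.isSeparable K (b i)).map
      (f := IsScalarTower.toAlgHom K E M) (IsScalarTower.toAlgHom K E M).injective)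
  have hE : ∀ x : E, algebraMap E M x ∈ L := fun x => by
    rw [← b.sum_repr x, map_sum]
    refine sum_mem fun i _ => ?_
    rw [Algebra.smul_def, map_mul, ← IsScalarTower.algebraMap_apply K E M, IsScalarTower.algebraMap_apply K F M]
    exact mul_mem (L.algebraMap_mem _) (IntermediateField.subset_adjoin F S ⟨i, rfl⟩)
  letI : Algebra E L := ((algebraMap E M).codRestrict L hE).toAlgebra
  haveI : IsScalarTower E L M := IsScalarTower.of_algebraMap_eq fun _ => rfl
  haveI : IsSimpleRing (L ⊗[E] D) := isSimpleRing_baseChange E D L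
  haveI : Algebra.IsCentral L (L ⊗[E] D) := isCentral_baseChange E D L
  have hs : Similar L (L ⊗[E] D) L := similar_self_of_forall L (fun D' => hF L D') _
  have hM : Similar M (M ⊗[E] D) M :=
    ((similar_of_algEquiv (cancelBC E L M D)).symm.trans
      (hs.baseChange M)).trans (similar_of_algEquiv (Algebra.TensorProduct.rid L M M))
  haveI : IsSimpleRing (M ⊗[E] D) := isSimpleRing_baseChange E D M
  haveI : Algebra.IsCentral M (M ⊗[E] D) := isCentral_baseChange E D M
  obtain ⟨n, -, e⟩ := similar_field_iff.1 hM
  exact ⟨n, e⟩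

theorem finrank_eq_one_of_forall_splits (K F : Type u) [Field K] [Field F] [Algebra K F] [Algebra.IsSeparable K F]
    (hS : ∀ (E : Type u) [Field E] [Algebra K E] [FiniteDimensional K E] [Algebra.IsSeparable K E]
      (D : Type u) [DivisionRing D] [Algebra E D] [Algebra.IsCentral E D] [FiniteDimensional E D]
      (M : Type u) [Field M] [Algebra K M] [Algebra E M] [Algebra F M] [IsScalarTower K E M]
      [IsScalarTower K F M],
      ∃ n : ℕ, Nonempty ((M ⊗[E] D) ≃ₐ[M] Matrix (Fin n) (Fin n) M))
    (F' : Type u) [Field F'] [Algebra F F'] [FiniteDimensional F F'] [Algebra.IsSeparable F F']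
    (D : Type u) [DivisionRing D] [Algebra F' D] [Algebra.IsCentral F' D] [FiniteDimensional F' D] :
    Module.finrank F' D = 1 := by
  classical
  letI : Algebra K F' := ((algebraMap F F').comp (algebraMap K F)).toAlgebra
  haveI : IsScalarTower K F F' := IsScalarTower.of_algebraMap_eq fun _ => rfl
  haveI : Algebra.IsSeparable K F' := Algebra.IsSeparable.trans K F F'
  let b := Module.finBasis F' D
  let S : Set F' := Set.range (fun p : (Fin (Module.finrank F' D) × Fin (Module.finrank F' D)) ×
    Fin (Module.finrank F' D) => b.repr (b p.1.1 * b p.1.2) p.2) ∪ Set.range (b.repr 1)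
  let E : IntermediateField K F' := IntermediateField.adjoin K S
  haveI : Finite S := ((Set.finite_range _).union (Set.finite_range _)).to_subtype
  haveI : FiniteDimensional K E := IntermediateField.finiteDimensional_adjoin fun x _ =>
    (Algebra.IsSeparable.isSeparable K x).isIntegral
  haveI : Algebra.IsSeparable K E := inferInstance
  have hmemS : ∀ s ∈ S, s ∈ E := fun s hs => IntermediateField.subset_adjoin K S hs
  let V : Submodule E D := Submodule.span E (Set.range b)
  have hV : ∀ x : D, x ∈ V ↔ ∀ i, b.repr x i ∈ E := fun x => by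
    constructor
    · intro hx
      induction hx using Submodule.span_induction with
      | mem y hy =>
        obtain ⟨j, rfl⟩ := hy
        intro i
        rw [Module.Basis.repr_self, Finsupp.single_apply]
        split_ifs
        · exact one_mem E
        · exact zero_mem E
      | zero => intro i; rw [map_zero]; exact zero_mem E
      | add y z _ _ hy hz => intro i; rw [map_add]; exact add_mem (hy i) (hz i)
      | smul a y _ hy =>
        intro i
        rw [← IsScalarTower.algebraMap_smul F' a y, map_smul, Finsupp.smul_apply, smul_eq_mul]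
        exact mul_mem a.2 (hy i)
    · intro hx
      rw [← b.sum_repr x]
      refine sum_mem fun i _ => ?_
      rw [show b.repr x i • b i = (⟨b.repr x i, hx i⟩ : E) • b i by rw [← IsScalarTower.algebraMap_smul F']; rfl]
      exact V.smul_mem _ (Submodule.subset_span ⟨i, rfl⟩)
  have h1 : (1 : D) ∈ V := (hV 1).2 fun i => hmemS _ (Or.inr ⟨i, rfl⟩)
  have hmul : ∀ x y, x ∈ V → y ∈ V → x * y ∈ V := fun x y hx hy => by
    induction hx using Submodule.span_induction with
    | mem x hx =>
      obtain ⟨i, rfl⟩ := hx
      induction hy using Submodule.span_induction with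
      | mem y hy =>
        obtain ⟨j, rfl⟩ := hy
        exact (hV _).2 fun l => hmemS _ (Or.inl ⟨((i, j), l), rfl⟩)
      | zero => rw [mul_zero]; exact zero_mem V
      | add y z _ _ hy hz => rw [mul_add]; exact add_mem hy hz
      | smul a y _ hy => rw [Algebra.mul_smul_comm]; exact V.smul_mem a hy
    | zero => rw [zero_mul]; exact zero_mem V
    | add x z _ _ hx hz => rw [add_mul]; exact add_mem hx hz
    | smul a x _ hx => rw [Algebra.smul_mul_assoc]; exact V.smul_mem a hx
  let D₀ : Subalgebra E D := V.toSubalgebra h1 hmul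
  have hbmem : ∀ i, b i ∈ D₀ := fun i => (Submodule.subset_span ⟨i, rfl⟩ : b i ∈ V)
  haveI : FiniteDimensional E D₀ := FiniteDimensional.span_of_finite E (Set.finite_range b)
  letI : DivisionRing D₀ := divisionRingOfFiniteDimensional E D₀
  haveI : Algebra.IsCentral E D₀ := ⟨fun z hz => by
    have hcomm : ∀ x : D, x * (z : D) = z * x := fun x => by
      rw [← b.sum_repr x, Finset.sum_mul, Finset.mul_sum]
      refine Finset.sum_congr rfl fun i _ => ?_
      rw [smul_mul_assoc, mul_smul_comm]
      exact congrArg _ (congrArg Subtype.val (Subalgebra.mem_center_iff.1 hz ⟨b i, hbmem i⟩))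
    obtain ⟨c, hc⟩ := Algebra.IsCentral.out (Subalgebra.mem_center_iff.2 hcomm :
      (z : D) ∈ Subalgebra.center F' D)
    change algebraMap F' D c = z at hc
    obtain ⟨i, hi⟩ : ∃ i, b.repr 1 i ≠ 0 := by
      by_contra hc'
      push Not at hc'
      exact one_ne_zero (b.repr.map_eq_zero_iff.1 (Finsupp.ext hc') : (1 : D) = 0)
    have hci : c * b.repr 1 i ∈ E := by
      have := (hV z).1 z.2 i
      rwa [← hc, Algebra.algebraMap_eq_smul_one, map_smul, Finsupp.smul_apply, smul_eq_mul] at this
    have hcE : c ∈ E := by
      have := div_mem hci (hmemS _ (Or.inr ⟨i, rfl⟩))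
      rwa [mul_div_cancel_right₀ _ hi] at this
    exact ⟨⟨c, hcE⟩, Subtype.ext hc⟩⟩
  obtain ⟨n, ⟨e⟩⟩ := hS E D₀ F'
  let φ : F' ⊗[E] D₀ →ₐ[F'] D := Algebra.TensorProduct.lift (Algebra.ofId F' D) D₀.val
    (fun c x => Algebra.commutes c (x : D))
  have hsurj : Function.Surjective φ := fun x => by
    refine ⟨∑ i, b.repr x i ⊗ₜ[E] (⟨b i, hbmem i⟩ : D₀), ?_⟩
    rw [map_sum]
    refine (Finset.sum_congr rfl fun i _ => ?_).trans (b.sum_repr x)
    rw [Algebra.TensorProduct.lift_tmul]
    exact (Algebra.smul_def _ _).symm
  haveI : IsSimpleRing (F' ⊗[E] D₀) := isSimpleRing_baseChange E D₀ F'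
  have hinj : Function.Injective φ := RingHom.injective (φ : F' ⊗[E] D₀ →+* D)
  let ψ : D ≃ₐ[F'] Matrix (Fin n) (Fin n) F' := (AlgEquiv.ofBijective φ ⟨hinj, hsurj⟩).symm.trans e
  rcases Nat.lt_or_ge n 2 with hn | hn
  · interval_cases n
    · exact absurd (ψ.injective (Matrix.ext fun i => i.elim0)) (one_ne_zero (α := D))
    · rw [ψ.toLinearEquiv.finrank_eq, Module.finrank_matrix, Fintype.card_fin, Module.finrank_self]
  · exfalso
    let i : Fin n := ⟨0, by omega⟩
    let j : Fin n := ⟨1, by omega⟩
    have hij : i ≠ j := by simp [i, j, Fin.ext_iff]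
    have hx : ψ.symm (Matrix.single i j 1) ≠ 0 := fun h0 => by
      have := congrFun (congrFun (congrArg ψ h0) i) j
      simp at this
    refine mul_ne_zero hx hx ?_
    rw [← map_mul, Matrix.single_mul_single_of_ne (h := hij.symm), map_zero]

end Groth.Agent.H9BrRes
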